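import Groth.Agent.Lib.CatLimit.Basic
import Groth.Agent.Lib.Excellent.Localization

/-!
# Catenary rings: quotients, local nature
-/

set_option autoImplicit false
universe u

namespace GrothLib.CatBasics

variable {R : Type u} [CommRing R]

theorem isCatenary_of_surjective {S : Type u} [CommRing S] (f : R →+* S) (hf : Function.Surjective f)
    (h : CAlg.IsCatenary R) : CAlg.IsCatenary S := by
  refine ⟨fun p q hpq => ?_, GrothLib.CatLimit.length_eq_of_surjective f hf h.2⟩
  obtain ⟨n, hn⟩ := h.1 (PrimeSpectrum.comap f p) (PrimeSpectrum.comap f q) (Ideal.comap_mono hpq)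
  have hmono : StrictMono (PrimeSpectrum.comap f) :=
    RingHom.strictMono_comap_of_surjective hf
  exact ⟨n, fun s h1 h2 => hn (s.map _ hmono) (congrArg (PrimeSpectrum.comap f) h1)
    (congrArg (PrimeSpectrum.comap f) h2)⟩

/-- Catenary can be checked on intervals. -/
theorem isCatenary_of_intervals
    (h : ∀ p q : PrimeSpectrum R, p ≤ q → ∃ (S : Type u) (_ : CommRing S) (φ : R →+* S),
      CAlg.IsCatenary S ∧
      (∀ a b : PrimeSpectrum S, PrimeSpectrum.comap φ a ≤ PrimeSpectrum.comap φ b → a ≤ b) ∧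
      ∀ x, p ≤ x → x ≤ q → x ∈ Set.range (PrimeSpectrum.comap φ)) : CAlg.IsCatenary R := by
  have key : ∀ (S : Type u) [CommRing S] (φ : R →+* S) (p q : PrimeSpectrum R),
      (∀ a b : PrimeSpectrum S, PrimeSpectrum.comap φ a ≤ PrimeSpectrum.comap φ b → a ≤ b) →
      (∀ x, p ≤ x → x ≤ q → x ∈ Set.range (PrimeSpectrum.comap φ)) →
      ∀ s : LTSeries (PrimeSpectrum R), s.head = p → s.last = q →
        ∃ t : LTSeries (PrimeSpectrum S), t.length = s.length ∧ PrimeSpectrum.comap φ t.head = p ∧
          PrimeSpectrum.comap φ t.last = q ∧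
          ((∀ i : Fin s.length, s (Fin.castSucc i) ⋖ s (Fin.succ i)) →
            ∀ i : Fin t.length, t (Fin.castSucc i) ⋖ t (Fin.succ i)) := by
    intro S _ φ p q hle hr s h1 h2
    choose g hg using fun i => hr (s i) (h1 ▸ s.monotone (Fin.zero_le i))
      (h2 ▸ s.monotone (Fin.le_last i))
    have hlt : StrictMono g := fun i j hij => lt_of_le_not_ge
      (hle _ _ (by rw [hg, hg]; exact (s.strictMono hij).le)) fun hji =>
      (s.strictMono hij).not_ge (by rw [← hg i, ← hg j]; exact Ideal.comap_mono hji)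
    refine ⟨LTSeries.mk s.length g hlt, rfl, (hg 0).trans h1, (hg _).trans h2,
      fun hs i => ⟨hlt (Fin.castSucc_lt_succ), fun c hc hc' => (hs i).2 (c := PrimeSpectrum.comap φ c) ?_ ?_⟩⟩
    · rw [← hg]
      exact lt_of_le_not_ge (Ideal.comap_mono hc.le) fun hh => hc.not_ge (hle _ _ hh)
    · rw [← hg]
      exact lt_of_le_not_ge (Ideal.comap_mono hc'.le) fun hh => hc'.not_ge (hle _ _ hh)
  refine ⟨fun p q hpq => ?_, fun s t hh hl hs ht => ?_⟩
  · obtain ⟨S, _, φ, hS, hle, hr⟩ := h p q hpq
    obtain ⟨p', rfl⟩ := hr p le_rfl hpq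
    obtain ⟨q', rfl⟩ := hr q hpq le_rfl
    obtain ⟨n, hn⟩ := hS.1 p' q' (hle _ _ hpq)
    refine ⟨n, fun s h1 h2 => ?_⟩
    obtain ⟨t, ht, t1, t2, -⟩ := key S φ _ _ hle hr s h1 h2
    rw [← ht]
    exact hn t (le_antisymm (hle _ _ t1.le) (hle _ _ t1.ge)) (le_antisymm (hle _ _ t2.le) (hle _ _ t2.ge))
  · have hpq : s.head ≤ s.last := s.monotone (Fin.zero_le _)
    obtain ⟨S, _, φ, hS, hle, hr⟩ := h _ _ hpq
    obtain ⟨s', e1, a1, b1, c1⟩ := key S φ _ _ hle hr s rfl rfl
    obtain ⟨t', e2, a2, b2, c2⟩ := key S φ _ _ hle hr t hh.symm hl.symm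
    rw [← e1, ← e2]
    exact hS.2 s' t' (le_antisymm (hle _ _ (a1.trans a2.symm).le) (hle _ _ (a2.trans a1.symm).le))
      (le_antisymm (hle _ _ (b1.trans b2.symm).le) (hle _ _ (b2.trans b1.symm).le)) (c1 hs) (c2 ht)

theorem isCatenary_iff_localization_maximal :
    CAlg.IsCatenary R ↔ ∀ (m : Ideal R) [m.IsMaximal], CAlg.IsCatenary (Localization.AtPrime m) := by
  refine ⟨fun h m _ => GrothLib.Excellent.isCatenary_localization m.primeCompl h, fun h => ?_⟩
  refine isCatenary_of_intervals fun p q hpq => ?_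
  obtain ⟨m, hm, hqm⟩ := q.asIdeal.exists_le_maximal q.2.ne_top
  refine ⟨Localization.AtPrime m, inferInstance, algebraMap R _, h m, fun a b hab => ?_, fun x _ hxq => ?_⟩
  · show a.asIdeal ≤ b.asIdeal
    rw [← IsLocalization.map_under m.primeCompl _ a.asIdeal, ← IsLocalization.map_under m.primeCompl _ b.asIdeal]
    exact Ideal.map_mono hab
  · have hdisj : Disjoint (m.primeCompl : Set R) x.asIdeal :=
      Set.disjoint_left.mpr fun r hr hrx => hr (hqm (hxq hrx))
    exact ⟨⟨_, IsLocalization.isPrime_of_isPrime_disjoint m.primeCompl _ _ x.2 hdisj⟩,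
      PrimeSpectrum.ext (IsLocalization.comap_map_of_isPrime_disjoint m.primeCompl _ x.2 hdisj)⟩

theorem isCatenary_iff_forall_quotient_minimalPrimes :
    CAlg.IsCatenary R ↔ ∀ p ∈ minimalPrimes R, CAlg.IsCatenary (R ⧸ p) := by
  refine ⟨fun h p _ => isCatenary_of_surjective _ Ideal.Quotient.mk_surjective h, fun h => ?_⟩
  refine isCatenary_of_intervals fun p q hpq => ?_
  obtain ⟨P, hP, hle⟩ := Ideal.exists_minimalPrimes_le (I := (⊥ : Ideal R)) (J := p.asIdeal) bot_le
  refine ⟨R ⧸ P, inferInstance, Ideal.Quotient.mk P, h P hP, fun a b hab =>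
    (Ideal.comap_le_comap_iff_of_surjective _ Ideal.Quotient.mk_surjective _ _).1 hab, fun x hx _ => ?_⟩
  have hker : RingHom.ker (Ideal.Quotient.mk P) ≤ x.asIdeal := by
    rw [Ideal.mk_ker]; exact hle.trans hx
  refine ⟨⟨_, Ideal.map_isPrime_of_surjective Ideal.Quotient.mk_surjective hker⟩, PrimeSpectrum.ext ?_⟩
  show (x.asIdeal.map (Ideal.Quotient.mk P)).comap (Ideal.Quotient.mk P) = x.asIdeal
  rw [Ideal.comap_map_of_surjective' _ Ideal.Quotient.mk_surjective, sup_eq_left.2 hker]

theorem isUniversallyCatenary_of_finiteType {A B : Type u} [CommRing A] [CommRing B] [Algebra A B]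
    [Algebra.FiniteType A B] (h : CAlg.IsUniversallyCatenary A) : CAlg.IsUniversallyCatenary B := by
  haveI := h.1
  refine ⟨Algebra.FiniteType.isNoetherianRing A B, fun S _ _ hS => ?_⟩
  letI : Algebra A S := ((algebraMap B S).comp (algebraMap A B)).toAlgebra
  haveI : IsScalarTower A B S := IsScalarTower.of_algebraMap_eq fun _ => rfl
  exact h.2 S (Algebra.FiniteType.trans (‹_› : Algebra.FiniteType A B) hS)

theorem isUniversallyCatenary_of_essFiniteType {A B : Type u} [CommRing A] [CommRing B] [Algebra A B]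
    [Algebra.EssFiniteType A B] (h : CAlg.IsUniversallyCatenary A) : CAlg.IsUniversallyCatenary B :=
  GrothLib.Excellent.isUniversallyCatenary_localization (Algebra.EssFiniteType.submonoid A B)
    (isUniversallyCatenary_of_finiteType h)

theorem isUniversallyCatenary_iff_localization_maximal [IsNoetherianRing R] :
    CAlg.IsUniversallyCatenary R ↔
      ∀ (m : Ideal R) [m.IsMaximal], CAlg.IsUniversallyCatenary (Localization.AtPrime m) := by
  refine ⟨fun h m _ => GrothLib.Excellent.isUniversallyCatenary_localization m.primeCompl h, fun h => ?_⟩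
  refine ⟨inferInstance, fun S _ _ hS => ?_⟩
  refine isCatenary_of_intervals fun p q _ => ?_
  obtain ⟨m, hm, hqm⟩ := (q.asIdeal.comap (algebraMap R S)).exists_le_maximal
    (Ideal.IsPrime.ne_top inferInstance)
  let M : Submonoid S := Algebra.algebraMapSubmonoid S m.primeCompl
  letI : Algebra (Localization.AtPrime m) (Localization M) := (IsLocalization.map (Localization M)
    (algebraMap R S) (show m.primeCompl ≤ M.comap (algebraMap R S) from
      fun r hr => ⟨r, hr, rfl⟩) : Localization.AtPrime m →+* Localization M).toAlgebra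
  haveI : IsScalarTower R (Localization.AtPrime m) (Localization M) :=
    IsScalarTower.of_algebraMap_eq fun r => by
      rw [RingHom.algebraMap_toAlgebra, IsLocalization.map_eq, ← IsScalarTower.algebraMap_apply]
  haveI : Algebra.FiniteType (Localization.AtPrime m) (Localization M) := by
    classical
    obtain ⟨g, hg⟩ := hS.out
    refine ⟨g.image (algebraMap S (Localization M)), ?_⟩
    rw [eq_top_iff]
    intro z _
    obtain ⟨⟨s, ⟨_, r, hr, rfl⟩⟩, hz⟩ := IsLocalization.surj M z
    have hs : algebraMap S (Localization M) s ∈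
        Algebra.adjoin (Localization.AtPrime m) ((g.image (algebraMap S (Localization M)) : Finset _) : Set (Localization M)) := by
      have h1 : s ∈ Algebra.adjoin R (g : Set S) := hg ▸ Algebra.mem_top
      clear hz
      induction h1 using Algebra.adjoin_induction with
      | mem x hx => exact Algebra.subset_adjoin (Finset.mem_image_of_mem _ hx)
      | algebraMap c =>
        rw [← IsScalarTower.algebraMap_apply, IsScalarTower.algebraMap_apply R (Localization.AtPrime m) (Localization M)]
        exact Subalgebra.algebraMap_mem _ _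
      | add x y _ _ hx hy => rw [map_add]; exact add_mem hx hy
      | mul x y _ _ hx hy => rw [map_mul]; exact mul_mem hx hy
    have hz' : algebraMap (Localization.AtPrime m) (Localization M) (IsLocalization.mk' _ 1 ⟨r, hr⟩) *
        algebraMap S (Localization M) s = z := by
      rw [← hz, ← IsScalarTower.algebraMap_apply R S (Localization M),
        IsScalarTower.algebraMap_apply R (Localization.AtPrime m) (Localization M), mul_comm z, ← mul_assoc, ← map_mul]
      simp
    rw [← hz']
    exact mul_mem (Subalgebra.algebraMap_mem _ _) hs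
  refine ⟨Localization M, inferInstance, algebraMap S _, (h m).2 _ inferInstance, fun a b hab => ?_,
    fun x _ hxq => ?_⟩
  · show a.asIdeal ≤ b.asIdeal
    rw [← IsLocalization.map_under M _ a.asIdeal, ← IsLocalization.map_under M _ b.asIdeal]
    exact Ideal.map_mono hab
  · have hdisj : Disjoint (M : Set S) x.asIdeal :=
      Set.disjoint_left.mpr fun y hy hyx => by
        obtain ⟨r, hr, rfl⟩ := hy
        exact hr (hqm (hxq hyx))
    exact ⟨⟨_, IsLocalization.isPrime_of_isPrime_disjoint M _ _ x.2 hdisj⟩,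
      PrimeSpectrum.ext (IsLocalization.comap_map_of_isPrime_disjoint M _ x.2 hdisj)⟩

end GrothLib.CatBasics
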